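import Groth.Prelude.Def_AssocGrMod
import Groth.Prelude.Def_GrMap2
import Mathlib.RingTheory.Noetherian.Basic
import Mathlib.RingTheory.Finiteness.Basic

/-!
# Filtered modules over a precomplete ring and their graded modules
-/

open FiltBl AssocGr

namespace Groth.L05.AdicGr

universe u

variable {A : Type u} [CommRing A] {I : Ideal A} {M : Type u} [AddCommGroup M] [Module A M]
  {F : I.Filtration M}

theorem exists_coeff_approx {ι : Type*} {d : ι → ℕ} {x : (i : ι) → ↥(F.N (d i))} {n : ℕ} {m : F.N n}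
    (h : (inDegM F n m : GrMod F) ∈ Submodule.span (GrRing (IdealFiltration.adic I))
      (Set.range fun i => (inDegM F (d i) (x i) : GrMod F))) :
    ∃ a : ι →₀ A, (∀ i, a i ∈ I ^ (n - d i)) ∧
      (m : M) - a.sum (fun i c => c • (x i : M)) ∈ F.N (n + 1) := by
  classical
  obtain ⟨g, hg⟩ := Finsupp.mem_span_range_iff_exists_finsupp.mp h
  choose f hf using fun i => mkG_surjective (IdealFiltration.adic I) (g i)
  let y : ReesM F := ∑ i ∈ g.support, f i • monomM F (d i) (x i)
  have hy : monomM F n m - y ∈ succMod F := by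
    rw [← mkGM_eq_zero_iff, map_sub, sub_eq_zero, ← coe_inDegM, ← hg, Finsupp.sum, map_sum]
    refine Finset.sum_congr rfl fun i _ => ?_
    rw [← hf i, coe_inDegM, mkG_smul_mkGM]
  have h1 := (mem_succMod_iff F _).mp hy n
  let a : ι →₀ A := Finsupp.onFinset g.support
    (fun i => if i ∈ g.support ∧ d i ≤ n then (f i : Polynomial A).coeff (n - d i) else 0)
    (fun i hi => by by_contra hni; exact hi (if_neg fun h => hni h.1))
  refine ⟨a, fun i => ?_, ?_⟩
  · simp only [a, Finsupp.onFinset_apply]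
    split_ifs with h
    · exact (mem_rees_iff _ _).mp (f i).2 (n - d i)
    · exact zero_mem _
  · have h2 : ReesM.coeff F (monomM F n m - y) n =
        (m : M) - a.sum (fun i c => c • (x i : M)) := by
      rw [← ReesM.coeffHom_apply, map_sub, ReesM.coeffHom_apply, ReesM.coeff_monomM, if_pos rfl,
        map_sum]
      congr 1
      rw [Finsupp.sum_of_support_subset _ Finsupp.support_onFinset_subset _ fun i _ => zero_smul A (x i : M)]
      refine Finset.sum_congr rfl fun i hi => ?_
      simp only [a, Finsupp.onFinset_apply, ReesM.coeffHom_apply, ReesM.coeff_smul]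
      by_cases hle : d i ≤ n
      · rw [if_pos ⟨hi, hle⟩, Finset.sum_eq_single (n - d i, d i)]
        · rw [ReesM.coeff_monomM, if_pos rfl]
        · rintro ⟨p, q⟩ hpq hne
          rw [Finset.mem_antidiagonal] at hpq
          simp only at hpq ⊢
          rw [ReesM.coeff_monomM, if_neg, smul_zero]
          intro hq
          exact hne (by ext <;> simp only <;> omega)
        · intro hn
          exact (hn (Finset.mem_antidiagonal.mpr (Nat.sub_add_cancel hle))).elim
      · rw [if_neg (fun h => hle h.2), zero_smul]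
        refine Finset.sum_eq_zero fun p hp => ?_
        rw [Finset.mem_antidiagonal] at hp
        rw [ReesM.coeff_monomM, if_neg (by omega), smul_zero]
    rw [← h2]
    exact h1

variable [IsPrecomplete I A]

/-- If the classes of the `x i` span the classes of the elements of `P`, then the closure of `P` is
contained in the span of the `x i`. -/
theorem closure_le_span {ι : Type*} [Finite ι] (h0 : F.N 0 = ⊤) (hsep : ⨅ n, F.N n = ⊥)
    {d : ι → ℕ} {x : (i : ι) → ↥(F.N (d i))} (P : Submodule A M) (hxP : ∀ i, (x i : M) ∈ P)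
    (hspan : ∀ (n : ℕ) (m : F.N n), (m : M) ∈ P →
      (inDegM F n m : GrMod F) ∈ Submodule.span (GrRing (IdealFiltration.adic I))
        (Set.range fun i => (inDegM F (d i) (x i) : GrMod F))) :
    (⨅ n, P ⊔ F.N n) ≤ Submodule.span A (Set.range fun i => (x i : M)) := by
  classical
  haveI := Fintype.ofFinite ι
  intro m hm
  let Q : Submodule A M := ⨅ n, P ⊔ F.N n
  have hxQ : ∀ i, (x i : M) ∈ Q := fun i => (Submodule.mem_iInf _).mpr fun n => Submodule.mem_sup_left (hxP i)
  have hstep : ∀ (n : ℕ) (y : ↥(Q ⊓ F.N n)), ∃ a : ι → A, (∀ i, a i ∈ I ^ (n - d i)) ∧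
      (y : M) - ∑ i, a i • (x i : M) ∈ Q ⊓ F.N (n + 1) := by
    rintro n ⟨y, hyQ, hyN⟩
    obtain ⟨p, hp, r, hr, rfl⟩ := Submodule.mem_sup.mp ((Submodule.mem_iInf _).mp hyQ (n + 1))
    have hpN : p ∈ F.N n := by
      simpa using sub_mem hyN (F.antitone n.le_succ hr)
    obtain ⟨a, ha, ha'⟩ := exists_coeff_approx (hspan n ⟨p, hpN⟩ hp)
    refine ⟨a, ha, Submodule.mem_inf.mpr ⟨?_, ?_⟩⟩
    · exact sub_mem hyQ (sum_mem fun i _ => Q.smul_mem _ (hxQ i))
    · rw [Finsupp.sum_fintype _ _ (fun i => zero_smul A (x i : M))] at ha'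
      rw [show p + r - ∑ i, a i • (x i : M) = (p - ∑ i, a i • (x i : M)) + r by abel]
      exact add_mem ha' hr
  choose a ha ha' using hstep
  let r : (n : ℕ) → ↥(Q ⊓ F.N n) := fun n => Nat.rec (motive := fun n => ↥(Q ⊓ F.N n))
    ⟨m, hm, h0 ▸ Submodule.mem_top⟩ (fun n y => ⟨(y : M) - ∑ i, a n y i • (x i : M), ha' n y⟩) n
  let s : ι → ℕ → A := fun i N => ∑ n ∈ Finset.range (N + d i), a n (r n) i
  have hs : ∀ i, ∀ {p q : ℕ}, p ≤ q → s i p ≡ s i q [SMOD (I ^ p • ⊤ : Submodule A A)] := by
    intro i p q hpq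
    rw [SModEq.sub_mem, smul_eq_mul, Ideal.mul_top, ← neg_mem_iff, neg_sub]
    simp only [s]
    rw [← Finset.sum_Ico_eq_sub _ (show p + d i ≤ q + d i by omega)]
    refine sum_mem fun n hn => Ideal.pow_le_pow_right ?_ (ha n (r n) i)
    have := (Finset.mem_Ico.mp hn).1
    omega
  choose L hL using fun i => IsPrecomplete.prec inferInstance (fun {p q} => hs i (p := p) (q := q))
  refine (Submodule.mem_span_range_iff_exists_fun A).mpr ⟨L, ?_⟩
  have hpart : ∀ N, ∑ n ∈ Finset.range N, ∑ i, a n (r n) i • (x i : M) = m - r N := by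
    intro N
    induction N with
    | zero => simp [r]
    | succ N ih =>
      rw [Finset.sum_range_succ, ih]
      show _ = m - ((r N : M) - _)
      abel
  rw [← sub_eq_zero, ← Submodule.mem_bot A, ← hsep, Submodule.mem_iInf]
  intro N
  have h1 : ∀ i, (L i - ∑ n ∈ Finset.range N, a n (r n) i) • (x i : M) ∈ F.N N := by
    intro i
    have h2 : L i - ∑ n ∈ Finset.range N, a n (r n) i ∈ I ^ (N - d i) := by
      have h3 := hL i (N - d i)
      rw [SModEq.sub_mem, smul_eq_mul, Ideal.mul_top, ← neg_mem_iff, neg_sub] at h3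
      have h4 : s i (N - d i) - ∑ n ∈ Finset.range N, a n (r n) i ∈ I ^ (N - d i) := by
        simp only [s]
        rw [← Finset.sum_Ico_eq_sub _ (show N ≤ N - d i + d i by omega)]
        refine sum_mem fun n hn => Ideal.pow_le_pow_right ?_ (ha n (r n) i)
        have := (Finset.mem_Ico.mp hn).1
        omega
      simpa using add_mem h3 h4
    exact F.antitone (show N ≤ (N - d i) + d i by omega)
      (F.pow_smul_le _ _ (Submodule.smul_mem_smul h2 (x i).2))
  have h5 := sub_mem (sum_mem fun i (_ : i ∈ Finset.univ) => h1 i) ((r N).2.2)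
  convert h5 using 1
  simp only [sub_smul, Finset.sum_sub_distrib, Finset.sum_smul]
  rw [Finset.sum_comm (s := Finset.univ) (t := Finset.range N), hpart]
  abel

omit [IsPrecomplete I A] in
theorem exists_finite_homogeneous (S : Set (Σ n, ↥(F.N n)))
    (hfg : (Submodule.span (GrRing (IdealFiltration.adic I))
      ((fun z => (inDegM F z.1 z.2 : GrMod F)) '' S)).FG) :
    ∃ T : Finset (Σ n, ↥(F.N n)), (T : Set (Σ n, ↥(F.N n))) ⊆ S ∧
      ∀ z ∈ S, (inDegM F z.1 z.2 : GrMod F) ∈ Submodule.span (GrRing (IdealFiltration.adic I))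
        (Set.range fun t : T => (inDegM F t.1.1 t.1.2 : GrMod F)) := by
  classical
  obtain ⟨U, hUS, hU⟩ := (Submodule.fg_span_iff_fg_span_finset_subset _).mp hfg
  obtain ⟨T, hTS, rfl⟩ := Finset.subset_set_image_iff.mp hUS
  refine ⟨T, hTS, fun z hz => ?_⟩
  have : (inDegM F z.1 z.2 : GrMod F) ∈ Submodule.span (GrRing (IdealFiltration.adic I))
      ((fun z => (inDegM F z.1 z.2 : GrMod F)) '' S) := Submodule.subset_span ⟨z, hz, rfl⟩
  rw [hU] at this
  refine Submodule.span_mono ?_ this
  rw [Finset.coe_image]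
  rintro _ ⟨t, ht, rfl⟩
  exact ⟨⟨t, ht⟩, rfl⟩

omit [IsPrecomplete I A] in
theorem span_homogeneous_eq_top :
    Submodule.span (GrRing (IdealFiltration.adic I))
      ((fun z : Σ n, ↥(F.N n) => (inDegM F z.1 z.2 : GrMod F)) '' Set.univ) = ⊤ := by
  classical
  refine top_unique fun w _ => ?_
  rw [← DirectSum.sum_support_decompose (grM F) w]
  refine sum_mem fun n _ => Submodule.subset_span ?_
  obtain ⟨z, hz⟩ := inDegM_surjective F n (DirectSum.decompose (grM F) w n)
  exact ⟨⟨n, z⟩, trivial, congrArg Subtype.val hz⟩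

theorem moduleFinite_of_grMod_finite (h0 : F.N 0 = ⊤) (hsep : ⨅ n, F.N n = ⊥)
    [Module.Finite (GrRing (IdealFiltration.adic I)) (GrMod F)] : Module.Finite A M := by
  obtain ⟨T, -, hT⟩ := exists_finite_homogeneous (F := F) Set.univ
    (by rw [span_homogeneous_eq_top]; exact Module.Finite.fg_top)
  have := closure_le_span (ι := T) h0 hsep (d := fun t => t.1.1) (x := fun t => t.1.2) ⊤
    (fun _ => Submodule.mem_top) fun n m _ => hT ⟨n, m⟩ trivial
  simp only [top_sup_eq, iInf_const] at this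
  exact ⟨Submodule.fg_def.mpr ⟨_, Set.finite_range _, top_unique this⟩⟩

theorem isNoetherian_and_closed (h0 : F.N 0 = ⊤) (hsep : ⨅ n, F.N n = ⊥)
    [IsNoetherian (GrRing (IdealFiltration.adic I)) (GrMod F)] :
    IsNoetherian A M ∧ ∀ M' : Submodule A M, ⨅ n, M' ⊔ F.N n = M' := by
  have key : ∀ M' : Submodule A M, M'.FG ∧ ⨅ n, M' ⊔ F.N n = M' := by
    intro M'
    obtain ⟨T, hTS, hT⟩ := exists_finite_homogeneous (F := F) {z | (z.2 : M) ∈ M'}
      (IsNoetherian.noetherian _)
    have h := closure_le_span (ι := T) h0 hsep (d := fun t => t.1.1) (x := fun t => t.1.2) M'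
      (fun t => hTS t.2) fun n m hm => hT ⟨n, m⟩ hm
    have hle : M' ≤ ⨅ n, M' ⊔ F.N n := le_iInf fun n => le_sup_left
    have hge : Submodule.span A (Set.range fun t : T => (t.1.2 : M)) ≤ M' :=
      Submodule.span_le.mpr (Set.range_subset_iff.mpr fun t => hTS t.2)
    exact ⟨Submodule.fg_def.mpr ⟨_, Set.finite_range _, le_antisymm hge (hle.trans h)⟩,
      le_antisymm (h.trans hge) hle⟩
  exact ⟨⟨fun M' => (key M').1⟩, fun M' => (key M').2⟩

end Groth.L05.AdicGr
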