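import Groth.Prelude.Def_GrMap2
import Mathlib.RingTheory.AdicCompletion.Basic

/-!
# Associated graded rings: surjectivity criteria
-/

open FiltBl AssocGr

namespace Groth.L05.AdicGr

universe u

variable {A B : Type u} [CommRing A] [CommRing B]

theorem exists_approx_of_map_surjective {φ : A →+* B} {𝓕 : IdealFiltration A} {𝓖 : IdealFiltration B}
    (h : IsFiltHom φ 𝓕 𝓖) (hs : Function.Surjective (AssocGr.map h)) (n : ℕ) {b : B}
    (hb : b ∈ 𝓖.F n) : ∃ a ∈ 𝓕.F n, b - φ a ∈ 𝓖.F (n + 1) := by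
  obtain ⟨x, hx⟩ := hs (inDeg 𝓖 n ⟨b, hb⟩ : GrRing 𝓖)
  obtain ⟨f, rfl⟩ := mkG_surjective 𝓕 x
  rw [map_mkG, coe_inDeg, ← sub_eq_zero, ← map_sub, mkG_eq_zero_iff] at hx
  have := (mem_succIdeal_iff 𝓖 _).mp hx n
  rw [Subalgebra.coe_sub, Polynomial.coeff_sub, coe_coe_monom, Polynomial.coeff_monomial_same,
    coe_reesMap, Polynomial.coeff_map] at this
  exact ⟨_, f.2 n, by rw [← neg_mem_iff, neg_sub]; exact this⟩

theorem exists_preimage_pow {φ : A →+* B} {I : Ideal A} {J : Ideal B} [IsPrecomplete I A]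
    [IsHausdorff J B] (hIJ : I.map φ ≤ J)
    (hstep : ∀ (n : ℕ) (b : B), b ∈ J ^ n → ∃ a ∈ I ^ n, b - φ a ∈ J ^ (n + 1)) (k : ℕ) {b : B}
    (hb : b ∈ J ^ k) : ∃ a ∈ I ^ k, φ a = b := by
  choose a ha ha' using hstep
  let r : (n : ℕ) → ↥(J ^ (k + n)) := fun n => Nat.rec (motive := fun n => ↥(J ^ (k + n))) ⟨b, hb⟩
    (fun n y => ⟨(y : B) - φ (a (k + n) y y.2), ha' (k + n) y y.2⟩) n
  let s : ℕ → A := fun N => ∑ n ∈ Finset.range N, a (k + n) (r n) (r n).2
  have hpart : ∀ N, φ (s N) = b - r N := by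
    intro N
    induction N with
    | zero => simp [s, r]
    | succ N ih =>
      simp only [s, Finset.sum_range_succ, map_add] at ih ⊢
      rw [ih]
      show _ = b - ((r N : B) - _)
      abel
  have hs : ∀ {p q : ℕ}, p ≤ q → s p ≡ s q [SMOD (I ^ p • ⊤ : Submodule A A)] := by
    intro p q hpq
    rw [SModEq.sub_mem, smul_eq_mul, Ideal.mul_top, ← neg_mem_iff, neg_sub]
    simp only [s]
    rw [← Finset.sum_Ico_eq_sub _ hpq]
    refine sum_mem fun n hn => Ideal.pow_le_pow_right ?_ (ha (k + n) (r n) (r n).2)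
    have := (Finset.mem_Ico.mp hn).1
    omega
  obtain ⟨L, hL⟩ := IsPrecomplete.prec inferInstance (fun {p q} => hs (p := p) (q := q))
  refine ⟨L, ?_, ?_⟩
  · have h3 := hL k
    rw [SModEq.sub_mem, smul_eq_mul, Ideal.mul_top] at h3
    have h4 : s k ∈ I ^ k :=
      sum_mem fun n _ => Ideal.pow_le_pow_right (Nat.le_add_right k n) (ha (k + n) (r n) (r n).2)
    simpa using sub_mem h4 h3
  · rw [← sub_eq_zero]
    refine IsHausdorff.haus inferInstance (I := J) (φ L - b) fun N => ?_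
    rw [SModEq.sub_mem, smul_eq_mul, Ideal.mul_top, sub_zero]
    have h3 := hL N
    rw [SModEq.sub_mem, smul_eq_mul, Ideal.mul_top] at h3
    have h5 : φ (s N - L) ∈ J ^ N := by
      have := Ideal.mem_map_of_mem φ h3
      rw [Ideal.map_pow] at this
      exact Ideal.pow_right_mono hIJ N this
    have h6 : (r N : B) ∈ J ^ N := Ideal.pow_le_pow_right (Nat.le_add_left N k) (r N).2
    have : φ L - b = -φ (s N - L) - r N := by rw [map_sub, hpart]; abel
    rw [this]
    exact sub_mem (neg_mem h5) h6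

theorem surjective_of_grMap_surjective {φ : A →+* B} {I : Ideal A} {J : Ideal B} (hIJ : I.map φ ≤ J)
    [IsPrecomplete I A] [IsHausdorff J B]
    (hstep : ∀ (n : ℕ) (b : B), b ∈ J ^ n → ∃ a ∈ I ^ n, b - φ a ∈ J ^ (n + 1)) :
    Function.Surjective φ ∧ I.map φ = J ∧ IsAdicComplete J B := by
  have hsurj : Function.Surjective φ := fun b => by
    obtain ⟨a, -, ha⟩ := exists_preimage_pow hIJ hstep 0 (b := b) (by simp)
    exact ⟨a, ha⟩
  refine ⟨hsurj, le_antisymm hIJ fun b hb => ?_,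
    { haus' := IsHausdorff.haus inferInstance, prec' := fun f hf => ?_ }⟩
  · obtain ⟨a, ha, rfl⟩ := exists_preimage_pow hIJ hstep 1 (b := b) (by simpa using hb)
    exact Ideal.mem_map_of_mem φ (by simpa using ha)
  · have hd : ∀ n, ∃ d ∈ I ^ n, φ d = f (n + 1) - f n := fun n => by
      refine exists_preimage_pow hIJ hstep n ?_
      have := hf n.le_succ
      rw [SModEq.sub_mem, smul_eq_mul, Ideal.mul_top] at this
      simpa using neg_mem this
    choose d hd hd' using hd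
    obtain ⟨a₀, ha₀⟩ := hsurj (f 0)
    let g : ℕ → A := fun n => a₀ + ∑ i ∈ Finset.range n, d i
    have hg : ∀ n, φ (g n) = f n := fun n => by
      induction n with
      | zero => simpa [g] using ha₀
      | succ n ih =>
        simp only [g, Finset.sum_range_succ, map_add] at ih ⊢
        rw [← add_assoc, ih, hd']
        abel
    have hgc : ∀ {p q : ℕ}, p ≤ q → g p ≡ g q [SMOD (I ^ p • ⊤ : Submodule A A)] := by
      intro p q hpq
      rw [SModEq.sub_mem, smul_eq_mul, Ideal.mul_top, ← neg_mem_iff, neg_sub]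
      simp only [g, add_sub_add_left_eq_sub]
      rw [← Finset.sum_Ico_eq_sub _ hpq]
      exact sum_mem fun n hn => Ideal.pow_le_pow_right (Finset.mem_Ico.mp hn).1 (hd n)
    obtain ⟨L, hL⟩ := IsPrecomplete.prec inferInstance (fun {p q} => hgc (p := p) (q := q))
    refine ⟨φ L, fun n => ?_⟩
    have h3 := hL n
    rw [SModEq.sub_mem, smul_eq_mul, Ideal.mul_top] at h3 ⊢
    rw [← hg n, ← map_sub]
    have := Ideal.mem_map_of_mem φ h3
    rw [Ideal.map_pow] at this
    exact Ideal.pow_right_mono hIJ n this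

theorem isDomain_of_isDomain_grRing (𝓕 : IdealFiltration A) (hsep : ⨅ n, 𝓕.F n = ⊥)
    [IsDomain (GrRing 𝓕)] : IsDomain A := by
  classical
  haveI : Nontrivial A := by
    by_contra h
    rw [not_nontrivial_iff_subsingleton] at h
    exact one_ne_zero (α := GrRing 𝓕) (by
      rw [← map_one (algebraMap A (GrRing 𝓕)), Subsingleton.elim (1 : A) 0, map_zero])
  have hord : ∀ a : A, a ≠ 0 → ∃ m, a ∈ 𝓕.F m ∧ a ∉ 𝓕.F (m + 1) := by
    intro a ha
    have hex : ∃ n, a ∉ 𝓕.F n := by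
      by_contra h
      push Not at h
      exact ha (by rw [← Submodule.mem_bot A, ← hsep, Submodule.mem_iInf]; exact h)
    obtain ⟨m, hm⟩ : ∃ m, Nat.find hex = m + 1 := by
      refine ⟨Nat.find hex - 1, ?_⟩
      have : Nat.find hex ≠ 0 := fun h => Nat.find_spec hex (by rw [h, 𝓕.zero_eq]; trivial)
      omega
    exact ⟨m, not_not.mp (Nat.find_min hex (by omega)), hm ▸ Nat.find_spec hex⟩
  have : NoZeroDivisors A := ⟨fun {a b} hab => by
    by_contra! h
    obtain ⟨m, hm, hm'⟩ := hord a h.1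
    obtain ⟨n, hn, hn'⟩ := hord b h.2
    have ha : (inDeg 𝓕 m ⟨a, hm⟩ : GrRing 𝓕) ≠ 0 := fun h0 =>
      hm' ((inDeg_eq_zero_iff 𝓕 m ⟨a, hm⟩).mp (Subtype.ext h0))
    have hb : (inDeg 𝓕 n ⟨b, hn⟩ : GrRing 𝓕) ≠ 0 := fun h0 =>
      hn' ((inDeg_eq_zero_iff 𝓕 n ⟨b, hn⟩).mp (Subtype.ext h0))
    refine mul_ne_zero ha hb ?_
    rw [coe_inDeg_mul, ZeroMemClass.coe_eq_zero, inDeg_eq_zero_iff]
    simp [hab]⟩
  exact NoZeroDivisors.to_isDomain A

theorem map_kerFilt_bijective (I : Ideal A) :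
    Function.Bijective (AssocGr.map (isFiltHom_kerFilt I)) := by
  have hev : ∀ n a, AdicCompletion.evalₐ I n (algebraMap A (AdicCompletion I A) a) =
      Ideal.Quotient.mk (I ^ n) a := fun n a => AlgHom.commutes _ a
  constructor
  · rw [injective_iff_map_eq_zero]
    intro x hx
    obtain ⟨f, rfl⟩ := mkG_surjective _ x
    rw [map_mkG, mkG_eq_zero_iff] at hx
    rw [mkG_eq_zero_iff]
    intro n
    have := hx n
    rw [coe_reesMap, Polynomial.coeff_map, mem_kerFilt_iff, hev,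
      Ideal.Quotient.eq_zero_iff_mem] at this
    exact this
  · intro y
    obtain ⟨g, rfl⟩ := mkG_surjective _ y
    rw [← sum_term (kerFilt I) g, map_sum]
    suffices ∀ n, mkG (kerFilt I) (term (kerFilt I) g n) ∈ (AssocGr.map (isFiltHom_kerFilt I)).range from
      sum_mem (S := (AssocGr.map (isFiltHom_kerFilt I)).range) fun n _ => this n
    intro n
    rw [mkG_term]
    set c := (g : Polynomial (AdicCompletion I A)).coeff n
    have hc : c ∈ (kerFilt I).F n := g.2 n
    obtain ⟨a, ha⟩ := Ideal.Quotient.mk_surjective (AdicCompletion.evalₐ I (n + 1) c)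
    have hsub : algebraMap A (AdicCompletion I A) a - c ∈ (kerFilt I).F (n + 1) := by
      rw [mem_kerFilt_iff, map_sub, hev, ha, sub_self]
    have han : a ∈ I ^ n := by
      have := (mem_kerFilt_iff I n _).mp ((kerFilt I).antitone n.le_succ hsub)
      rw [map_sub, hev, (mem_kerFilt_iff I n c).mp hc, sub_zero] at this
      exact Ideal.Quotient.eq_zero_iff_mem.mp this
    refine ⟨inDeg (IdealFiltration.adic I) n ⟨a, han⟩, ?_⟩
    rw [map_inDeg, ← sub_eq_zero, ← AddSubgroupClass.coe_sub, ← map_sub, ZeroMemClass.coe_eq_zero,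
      inDeg_eq_zero_iff]
    exact hsub

end Groth.L05.AdicGr
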